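/-
Combinatorics of reduced words used for the tree of a graph of finite groups.
-/
import Mathlib.GroupTheory.FreeGroup.Reduce
import Mathlib.GroupTheory.FreeGroup.CyclicallyReduced

set_option autoImplicit false

namespace Cfsg.Agent.FusTree81

open FreeGroup

variable {α : Type*} [DecidableEq α]

lemma invRev_append_isReduced {X Y : List (α × Bool)} (hX : IsReduced X) (hY : IsReduced Y)
    (h : ∀ a ∈ X.head?, ∀ b ∈ Y.head?, a ≠ b) : IsReduced (invRev X ++ Y) := by
  have hXi : IsReduced (invRev X) := by
    rw [isReduced_iff_reduce_eq, reduce_invRev, hX.reduce_eq]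
  refine List.IsChain.append hXi hY ?_
  intro a ha b hb hab
  cases X with
  | nil => simp [invRev] at ha
  | cons x X' =>
    have hb' := h x (by simp) b hb
    have : a = (x.1, !x.2) := by
      simp [invRev] at ha
      exact ha.symm
    subst this
    rcases x with ⟨x1, x2⟩
    rcases b with ⟨b1, b2⟩
    simp only at hab ⊢
    subst hab
    cases x2 <;> cases b2 <;> simp_all

/-- Length of the reduced word of `(mk X)⁻¹ * mk Y`. -/
def dst (X Y : List (α × Bool)) : ℕ := (reduce (invRev X ++ Y)).length

lemma dst_cons (a : α × Bool) (X Y : List (α × Bool)) : dst (a :: X) (a :: Y) = dst X Y := by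
  unfold dst
  congr 1
  apply reduce.sound
  rw [← mul_mk, ← mul_mk, ← inv_mk, ← inv_mk,
    show (a :: X) = [a] ++ X from rfl, show (a :: Y) = [a] ++ Y from rfl, ← mul_mk, ← mul_mk]
  group

lemma dst_of_head_ne {X Y : List (α × Bool)} (hX : IsReduced X) (hY : IsReduced Y)
    (h : ∀ a ∈ X.head?, ∀ b ∈ Y.head?, a ≠ b) : dst X Y = X.length + Y.length := by
  unfold dst
  rw [(invRev_append_isReduced hX hY h).reduce_eq, List.length_append, invRev_length]

/-- Four point inequality for a geodesic split as `A ++ B`. -/
lemma dst_split : ∀ (A B Y : List (α × Bool)), IsReduced (A ++ B) → IsReduced Y →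
    dst A Y + A.length ≤ Y.length ∨ dst A Y + B.length = dst (A ++ B) Y := by
  intro A
  induction A with
  | nil =>
    intro B Y _ hY
    left
    simp [dst, invRev, hY.reduce_eq]
  | cons a A ih =>
    intro B Y hAB hY
    have hA : IsReduced (a :: A) := hAB.infix ⟨[], B, rfl⟩
    cases Y with
    | nil =>
      right
      rw [dst_of_head_ne hA hY (by simp), dst_of_head_ne hAB hY (by simp)]
      simp only [List.length_append, List.length_cons, List.length_nil, List.cons_append]
      omega
    | cons b Y' =>
      by_cases hab : a = b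
      · subst hab
        have hAB' : IsReduced (A ++ B) := hAB.infix ⟨[a], [], by simp⟩
        have hY' : IsReduced Y' := hY.infix ⟨[a], [], by simp⟩
        rw [List.cons_append, dst_cons, dst_cons]
        rcases ih B Y' hAB' hY' with h | h
        · left; simp only [List.length_cons]; omega
        · right; exact h
      · right
        rw [dst_of_head_ne hA hY (by simpa using hab),
          dst_of_head_ne hAB hY (by simpa using hab)]
        simp only [List.length_append, List.length_cons, List.cons_append]
        omega

lemma norm_inv_mul (x y : FreeGroup α) : norm (x⁻¹ * y) = dst x.toWord y.toWord := by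
  simp [norm, dst, toWord_mul, toWord_inv]

lemma norm_mul_parity (x y : FreeGroup α) : norm (x * y) % 2 = (norm x + norm y) % 2 := by
  obtain ⟨k, hk⟩ := Red.length (reduce.red (L := x.toWord ++ y.toWord))
  simp only [norm, toWord_mul]
  rw [List.length_append] at hk
  omega

/-- The point at distance `j` from `1` on the geodesic to `w`. -/
def pre (w : FreeGroup α) (j : ℕ) : FreeGroup α := mk (w.toWord.take j)

lemma toWord_pre (w : FreeGroup α) (j : ℕ) : (pre w j).toWord = w.toWord.take j := by
  rw [pre, toWord_mk]
  exact ((isReduced_toWord (x := w)).infix (List.take_prefix j _).isInfix).reduce_eq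

lemma pre_near (w y : FreeGroup α) {j : ℕ} (hj : j ≤ norm w) :
    norm ((pre w j)⁻¹ * y) + j ≤ norm y ∨
      norm ((pre w j)⁻¹ * y) + (norm w - j) = norm (w⁻¹ * y) := by
  rw [norm_inv_mul, norm_inv_mul, toWord_pre]
  have h := dst_split (w.toWord.take j) (w.toWord.drop j) y.toWord
    (by rw [List.take_append_drop]; exact isReduced_toWord) isReduced_toWord
  rw [List.take_append_drop] at h
  simp only [List.length_take, List.length_drop] at h
  simp only [norm] at hj ⊢
  rcases h with h | h
  · left; omega
  · right; omega

lemma le_norm_add (w x : FreeGroup α) : norm w ≤ norm x + norm (w⁻¹ * x) := by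
  calc norm w = norm (x * (w⁻¹ * x)⁻¹) := by group
    _ ≤ norm x + norm (w⁻¹ * x)⁻¹ := norm_mul_le _ _
    _ = _ := by rw [norm_inv_eq]

lemma eq_pre (w x : FreeGroup α) (h : norm x + norm (w⁻¹ * x) ≤ norm w) :
    x = pre w (norm x) := by
  have hj : norm x ≤ norm w := by omega
  have := pre_near w x hj
  have h0 : norm ((pre w (norm x))⁻¹ * x) = 0 := by omega
  rw [norm_eq_zero] at h0
  exact (inv_mul_eq_one.1 h0).symm

end Cfsg.Agent.FusTree81
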